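import Mathlib.AlgebraicGeometry.Artinian
import Mathlib.AlgebraicGeometry.Morphisms.FormallyUnramified
import Mathlib.RingTheory.Unramified.Field
import Mathlib.RingTheory.Unramified.Finite

/-!
# Unramified schemes over a field
-/

set_option autoImplicit false
set_option backward.isDefEq.respectTransparency.types false

universe u

open CategoryTheory CategoryTheory.Limits AlgebraicGeometry

namespace Groth.Agent.UnramField

lemma isField_of_subsingleton (A : Type u) [CommRing A] [IsReduced A] [Nontrivial A]
    [Subsingleton (PrimeSpectrum A)] : IsField A := by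
  obtain ⟨m, hm⟩ := Ideal.exists_maximal A
  have h : ∀ P : Ideal A, P.IsPrime → P = m := fun P hP ↦
    congrArg PrimeSpectrum.asIdeal
      (Subsingleton.elim (⟨P, hP⟩ : PrimeSpectrum A) ⟨m, hm.isPrime⟩)
  have hbot : m = ⊥ := by
    rw [eq_bot_iff, ← nilradical_eq_bot_iff.mpr ‹IsReduced A›, nilradical_eq_sInf]
    exact le_sInf fun P hP ↦ (h P hP).ge
  exact Ring.isField_iff_maximal_bot.mpr (hbot ▸ hm)

variable {k : Type u} [Field k]

/-- `Spec A → Spec k` unramified and of finite type: `A` is finite, reduced and separable. -/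
lemma ring_props {A : CommRingCat.{u}} (φ : CommRingCat.of k ⟶ A)
    [FormallyUnramified (Spec.map φ)] [LocallyOfFiniteType (Spec.map φ)] :
    letI := φ.hom.toAlgebra
    Algebra.FormallyUnramified k A ∧ Algebra.EssFiniteType k A ∧ Module.Finite k A ∧
      IsReduced A := by
  letI := φ.hom.toAlgebra
  have h1 : Algebra.FormallyUnramified k A :=
    (HasRingHomProperty.Spec_iff (P := @FormallyUnramified)).mp ‹FormallyUnramified (Spec.map φ)›
  have h2 : Algebra.FiniteType k A :=
    (HasRingHomProperty.Spec_iff (P := @LocallyOfFiniteType)).mp ‹LocallyOfFiniteType (Spec.map φ)›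
  exact ⟨h1, inferInstance, Algebra.FormallyUnramified.finite_of_free k A,
    Algebra.FormallyUnramified.isReduced_of_field k A⟩

variable {X : Scheme.{u}} (f : X ⟶ Spec (CommRingCat.of k))
  [FormallyUnramified f] [LocallyOfFiniteType f]

/-- The structure map of an affine open. -/
noncomputable def structMap {U : X.Opens} (hU : IsAffineOpen U) :
    CommRingCat.of k ⟶ Γ(X, U) :=
  Spec.preimage (hU.fromSpec ≫ f)

lemma map_structMap {U : X.Opens} (hU : IsAffineOpen U) :
    Spec.map (structMap f hU) = hU.fromSpec ≫ f :=
  Spec.map_preimage _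

instance {U : X.Opens} (hU : IsAffineOpen U) :
    FormallyUnramified (Spec.map (structMap f hU)) := by
  rw [map_structMap]
  exact MorphismProperty.comp_mem _ _ _ inferInstance inferInstance

instance {U : X.Opens} (hU : IsAffineOpen U) :
    LocallyOfFiniteType (Spec.map (structMap f hU)) := by
  rw [map_structMap]; infer_instance

include f in
lemma discreteTopology : DiscreteTopology X := by
  have : IsLocallyArtinian X := by
    rw [isLocallyArtinian_iff_of_isOpenCover (U := fun U : X.affineOpens ↦ U.1)
      (TopologicalSpace.IsOpenCover.mk (iSup_affineOpens_eq_top X)) (fun U ↦ U.2)]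
    intro U
    obtain ⟨-, -, h, -⟩ := ring_props (structMap f U.2)
    letI := (structMap f U.2).hom.toAlgebra
    exact IsArtinianRing.of_finite k _
  infer_instance

/-- An unramified scheme over a field is a disjoint union of spectra of finite separable field
extensions. -/
theorem exists_iso_coprod :
    ∃ (ι : Type u) (K : ι → Type u) (_ : ∀ i, Field (K i)) (_ : ∀ i, Algebra k (K i)),
      (∀ i, FiniteDimensional k (K i) ∧ Algebra.IsSeparable k (K i)) ∧
      ∃ e : X ≅ ∐ (fun i => Spec (CommRingCat.of (K i))),
        e.hom ≫ Sigma.desc (fun i => Spec.map (CommRingCat.ofHom (algebraMap k (K i)))) = f := by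
  have := discreteTopology f
  let U : X → X.Opens := fun x ↦ ⟨{x}, isOpen_discrete _⟩
  have hsub : ∀ x, Subsingleton (U x) := fun x ↦ inferInstanceAs (Subsingleton ({x} : Set X))
  have hU : ∀ x, IsAffineOpen (U x) := fun x ↦ by
    have : DiscreteTopology ↥(U x) := inferInstanceAs (DiscreteTopology ({x} : Set X))
    have : Finite ↥(U x) := inferInstanceAs (Finite ({x} : Set X))
    exact (inferInstance : IsAffine (U x))
  have hfield : ∀ x, IsField Γ(X, U x) := fun x ↦ by
    obtain ⟨-, -, -, hred⟩ := ring_props (structMap f (hU x))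
    have : Subsingleton (PrimeSpectrum Γ(X, U x)) :=
      have := hsub x
      (hU x).isoSpec.hom.homeomorph.symm.injective.subsingleton
    have : Nonempty (U x) := ⟨⟨x, rfl⟩⟩
    exact isField_of_subsingleton _
  letI fld : ∀ x : X, Field Γ(X, U x) := fun x ↦ (hfield x).toField
  letI alg : ∀ x : X, Algebra k Γ(X, U x) := fun x ↦ (structMap f (hU x)).hom.toAlgebra
  refine ⟨X, fun x ↦ Γ(X, U x), fld, alg, fun x ↦ ?_, ?_⟩
  · obtain ⟨h1, h2, h3, -⟩ := ring_props (structMap f (hU x))
    exact ⟨h3, (Algebra.FormallyUnramified.iff_isSeparable k _).mp h1⟩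
  · obtain ⟨hc⟩ := nonempty_isColimit_cofanMk_of (S := X)
      (X := fun x : X ↦ Spec (CommRingCat.of Γ(X, U x))) (fun x ↦ (hU x).fromSpec)
      (by
        rw [eq_top_iff]
        rintro y -
        refine TopologicalSpace.Opens.mem_iSup.mpr ⟨y, ?_⟩
        show y ∈ Set.range _
        rw [(hU y).range_fromSpec]
        exact rfl)
      (by
        intro x y hxy
        simp only [Function.onFun]
        rw [disjoint_iff]
        ext z
        simp only [TopologicalSpace.Opens.coe_inf, TopologicalSpace.Opens.coe_bot,
          Set.mem_inter_iff, Set.mem_empty_iff_false, iff_false, not_and]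
        intro hz hz'
        have h1 : z ∈ (U x : Set X) := (hU x).range_fromSpec ▸ hz
        have h2 : z ∈ (U y : Set X) := (hU y).range_fromSpec ▸ hz'
        exact hxy (h1.symm.trans h2))
    have : IsIso (Sigma.desc fun x : X ↦ (hU x).fromSpec) :=
      (Cofan.nonempty_isColimit_iff_isIso_sigmaDesc _).mp ⟨hc⟩
    refine ⟨(asIso (Sigma.desc fun x : X ↦ (hU x).fromSpec)).symm, ?_⟩
    rw [Iso.symm_hom, asIso_inv, IsIso.inv_comp_eq]
    ext x : 1
    simp only [Sigma.ι_desc, Sigma.ι_desc_assoc]
    exact map_structMap f (hU x)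

omit [FormallyUnramified f] [LocallyOfFiniteType f] in
/-- Converse. -/
lemma unramified_of_iso_coprod {ι : Type u} {K : ι → Type u} [∀ i, Field (K i)]
    [∀ i, Algebra k (K i)]
    (h : ∀ i, FiniteDimensional k (K i) ∧ Algebra.IsSeparable k (K i))
    (e : X ≅ ∐ (fun i => Spec (CommRingCat.of (K i))))
    (he : e.hom ≫ Sigma.desc (fun i => Spec.map (CommRingCat.ofHom (algebraMap k (K i)))) = f) :
    FormallyUnramified f ∧ LocallyOfFiniteType f := by
  subst he
  have h1 : FormallyUnramified
      (Sigma.desc fun i => Spec.map (CommRingCat.ofHom (algebraMap k (K i)))) :=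
    IsZariskiLocalAtSource.sigmaDesc (P := @FormallyUnramified) fun i ↦
      (HasRingHomProperty.Spec_iff (P := @FormallyUnramified)).mpr <|
        RingHom.formallyUnramified_algebraMap.mpr <|
          have := (h i).2
          Algebra.FormallyUnramified.of_isSeparable k (K i)
  have h2 : LocallyOfFiniteType
      (Sigma.desc fun i => Spec.map (CommRingCat.ofHom (algebraMap k (K i)))) :=
    IsZariskiLocalAtSource.sigmaDesc (P := @LocallyOfFiniteType) fun i ↦
      (HasRingHomProperty.Spec_iff (P := @LocallyOfFiniteType)).mpr <|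
        RingHom.finiteType_algebraMap.mpr <|
          have := (h i).1
          Module.Finite.finiteType (K i)
  exact ⟨MorphismProperty.comp_mem _ _ _ inferInstance h1, inferInstance⟩

end Groth.Agent.UnramField
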